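import Groth.Agent.ModEtQCoh.Morphisms
import Mathlib.LinearAlgebra.Alternating.Uncurry.Fin
import Mathlib.LinearAlgebra.Alternating.Curry
import Mathlib.LinearAlgebra.Finsupp.VectorSpace
import Mathlib.CategoryTheory.Sites.ConcreteSheafification

/-!
# The sheaves of alternating cochains of a chart
-/

set_option autoImplicit false
set_option backward.isDefEq.respectTransparency.types false
set_option linter.style.haveILetI false
universe u

open CategoryTheory CategoryTheory.Limits AlgebraicGeometry Opposite AlgSp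

namespace Groth.ModEtQCoh.AltCech

noncomputable section

section Free

variable {α : Type*} {N : Type*} [AddCommGroup N]

/-- A multilinear map with given values on basis vectors. -/
def mlin : ∀ (n : ℕ), ((Fin n → α) → N) → MultilinearMap ℤ (fun _ : Fin n => α →₀ ℤ) N
  | 0, φ => MultilinearMap.constOfIsEmpty ℤ _ (φ Fin.elim0)
  | n + 1, φ => LinearMap.uncurryLeft (Finsupp.linearCombination ℤ fun l => mlin n fun u => φ (Fin.cons l u))

theorem mlin_single : ∀ (n : ℕ) (φ : (Fin n → α) → N) (u : Fin n → α),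
    mlin n φ (fun i => Finsupp.single (u i) 1) = φ u
  | 0, φ, u => congrArg φ (Subsingleton.elim _ _)
  | n + 1, φ, u => by
    show (Finsupp.linearCombination ℤ fun l => mlin n fun v => φ (Fin.cons l v)) (Finsupp.single (u 0) 1)
      (Fin.tail fun i => Finsupp.single (u i) 1) = φ u
    rw [Finsupp.linearCombination_single, one_smul]
    exact (mlin_single n _ (Fin.tail u)).trans (congrArg φ (Fin.cons_self_tail u))

/-- Alternating maps agree when they agree on basis vectors. -/
theorem alt_ext {n : ℕ} {f g : (α →₀ ℤ) [⋀^Fin n]→ₗ[ℤ] N}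
    (h : ∀ u : Fin n → α, f (fun i => Finsupp.single (u i) 1) = g (fun i => Finsupp.single (u i) 1)) : f = g :=
  Module.Basis.ext_alternating Finsupp.basisSingleOne fun v _ => by simpa using h v

end Free

variable {S : Scheme.{u}} {X : Sp S} (U : EtOver X) (M : ModEt X)

/-- Combinations of maps into the chart. -/
abbrev Ch (W : EtOver X) : Type u := (W ⟶ U) →₀ ℤ

variable {U}

/-- A map into the chart as a combination. -/
abbrev e {W : EtOver X} (l : W ⟶ U) : Ch U W := Finsupp.single l 1

variable (U)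

/-- Precomposition. -/
def pre {W W' : EtOver X} (h : W' ⟶ W) : Ch U W →ₗ[ℤ] Ch U W' := Finsupp.lmapDomain ℤ ℤ (h ≫ ·)

theorem pre_e {W W' : EtOver X} (h : W' ⟶ W) (l : W ⟶ U) : pre U h (e l) = e (h ≫ l) :=
  Finsupp.mapDomain_single

theorem pre_id {W : EtOver X} (v : Ch U W) : pre U (𝟙 W) v = v := by
  show Finsupp.mapDomain (fun l : W ⟶ U => 𝟙 W ≫ l) v = v
  simp only [Category.id_comp]
  exact Finsupp.mapDomain_id

theorem pre_comp {W W' W'' : EtOver X} (k : W'' ⟶ W') (h : W' ⟶ W) (v : Ch U W) :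
    pre U (k ≫ h) v = pre U k (pre U h v) := by
  show Finsupp.mapDomain (fun l : W ⟶ U => (k ≫ h) ≫ l) v =
    Finsupp.mapDomain (fun l => k ≫ l) (Finsupp.mapDomain (fun l => h ≫ l) v)
  rw [← Finsupp.mapDomain_comp]
  simp only [Function.comp_def, Category.assoc]

/-- Restriction as an additive map. -/
def res {W W' : EtOver X} (h : W' ⟶ W) : sectModEt M W →ₗ[ℤ] sectModEt M W' :=
  (resM M h).toAddMonoidHom.toIntLinearMap

variable (n : ℕ)

/-- Families of alternating maps. -/
abbrev Raw (E : EtOver X) : Type (u + 1) := ∀ W : EtOver X, (W ⟶ E) → (Ch U W [⋀^Fin n]→ₗ[ℤ] sectModEt M W)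

/-- Natural families. -/
def natFam (E : EtOver X) : AddSubgroup (Raw U M n E) where
  carrier := {s | ∀ (W W' : EtOver X) (h : W' ⟶ W) (a : W ⟶ E) (v : Fin n → Ch U W),
    resM M h (s W a v) = s W' (h ≫ a) (fun i => pre U h (v i))}
  add_mem' {s t} hs ht W W' h a v := by
    show resM M h (s W a v + t W a v) = s W' _ _ + t W' _ _
    rw [map_add, hs, ht]
  zero_mem' W W' h a v := map_zero (resM M h)
  neg_mem' {s} hs W W' h a v := by
    show resM M h (-(s W a v)) = -(s W' _ _)
    rw [map_neg, hs]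

variable {U M n}

theorem nat_apply {E : EtOver X} (s : natFam U M n E) {W W' : EtOver X} (h : W' ⟶ W) (a : W ⟶ E)
    (v : Fin n → Ch U W) : resM M h (s.1 W a v) = s.1 W' (h ≫ a) (fun i => pre U h (v i)) := s.2 W W' h a v

/-- Values on tuples of maps. -/
theorem nat_e {E : EtOver X} (s : natFam U M n E) {W W' : EtOver X} (h : W' ⟶ W) (a : W ⟶ E)
    (u : Fin n → (W ⟶ U)) : resM M h (s.1 W a fun i => e (u i)) = s.1 W' (h ≫ a) (fun i => e (h ≫ u i)) := by
  rw [nat_apply]
  exact congrArg _ (funext fun i => pre_e U h (u i))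

/-- Naturality may be checked on basis vectors. -/
theorem mem_natFam {E : EtOver X} (s : Raw U M n E)
    (h : ∀ (W W' : EtOver X) (h : W' ⟶ W) (a : W ⟶ E) (u : Fin n → (W ⟶ U)),
      resM M h (s W a fun i => e (u i)) = s W' (h ≫ a) (fun i => e (h ≫ u i))) : s ∈ natFam U M n E := by
  intro W W' k a v
  have H : (res M k).compAlternatingMap (s W a) = (s W' (k ≫ a)).compLinearMap (pre U k) := alt_ext fun u => by
    show resM M k (s W a fun i => e (u i)) = s W' (k ≫ a) (fun i => pre U k (e (u i)))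
    rw [h]
    exact congrArg _ (funext fun i => (pre_e U k (u i)).symm)
  exact DFunLike.congr_fun H v

theorem natFam_ext {E : EtOver X} {s t : natFam U M n E}
    (h : ∀ (W : EtOver X) (a : W ⟶ E) (u : Fin n → (W ⟶ U)), s.1 W a (fun i => e (u i)) = t.1 W a (fun i => e (u i))) :
    s = t :=
  Subtype.ext (funext fun W => funext fun a => alt_ext fun u => h W a u)

/-- Restriction of natural families. -/
def natMap {E E' : EtOver X} (g : E' ⟶ E) : natFam U M n E →+ natFam U M n E' where
  toFun s := ⟨fun W a => s.1 W (a ≫ g), fun W W' h a v => by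
    show resM M h (s.1 W (a ≫ g) v) = s.1 W' ((h ≫ a) ≫ g) _
    rw [nat_apply, Category.assoc]⟩
  map_zero' := rfl
  map_add' _ _ := rfl

variable (U M n)

/-- The presheaf of natural families. -/
def preA : (EtOver X)ᵒᵖ ⥤ AddCommGrpCat.{u + 1} where
  obj E := AddCommGrpCat.of (natFam U M n E.unop)
  map g := AddCommGrpCat.ofHom (natMap g.unop)
  map_id E := AddCommGrpCat.hom_ext (AddMonoidHom.ext fun s => Subtype.ext (funext fun W => funext fun a =>
    congrArg (s.1 W) (Category.comp_id a)))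
  map_comp g g' := AddCommGrpCat.hom_ext (AddMonoidHom.ext fun s => Subtype.ext (funext fun W => funext fun a =>
    congrArg (s.1 W) (Category.assoc a g'.unop g.unop).symm))

set_option maxHeartbeats 800000 in
theorem isSheaf_preA : Presheaf.IsSheaf (etTop X) (preA U M n) := by
  classical
  refine (Presheaf.isSheaf_iff_isSheaf_forget _ _ (forget AddCommGrpCat)).2
    ((isSheaf_iff_isSheaf_of_type _ _).2 fun E R hR x hx => ?_)
  let xv : ∀ {V : EtOver X} (g : V ⟶ E), R g → natFam U M n V := fun {V} g hg => x g hg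
  have hxv : ∀ {V V' : EtOver X} (g : V ⟶ E) (hg : R g) (k : V' ⟶ V),
      xv (k ≫ g) (R.downward_closed hg k) = natMap k (xv g hg) := fun {V V'} g hg k => by
    have := hx (𝟙 V') k (R.downward_closed hg k) hg (Category.id_comp _)
    refine Eq.trans ?_ this
    exact (ConcreteCategory.congr_hom ((preA U M n).map_id (op V')) _).symm
  let T : ∀ (W : EtOver X) (a : W ⟶ E) {V : EtOver X} (h : V ⟶ W), R (h ≫ a) → (Ch U W [⋀^Fin n]→ₗ[ℤ] sectModEt M V) :=
    fun W a {V} h hh => ((xv (h ≫ a) hh).1 V (𝟙 V)).compLinearMap (pre U h)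
  have hT : ∀ (W : EtOver X) (a : W ⟶ E) {V V' : EtOver X} (h : V ⟶ W) (k : V' ⟶ V) (hh : R (h ≫ a))
      (hh' : R ((k ≫ h) ≫ a)) (v : Fin n → Ch U W), resM M k (T W a h hh v) = T W a (k ≫ h) hh' v := by
    intro W a V V' h k hh hh' v
    show resM M k ((xv _ hh).1 V (𝟙 V) _) = (xv ((k ≫ h) ≫ a) hh').1 V' (𝟙 V') _
    rw [nat_apply]
    have e1 : xv ((k ≫ h) ≫ a) hh' = natMap k (xv (h ≫ a) hh) := by
      rw [← hxv (h ≫ a) hh k]
      congr 1
    rw [e1]
    show _ = (xv (h ≫ a) hh).1 V' (𝟙 V' ≫ k) _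
    rw [Category.comp_id, Category.id_comp]
    exact congrArg _ (funext fun i => (pre_comp U k h (v i)).symm)
  have hglue : ∀ (W : EtOver X) (a : W ⟶ E) (v : Fin n → Ch U W), ∃! p : sectModEt M W,
      ∀ (V : EtOver X) (h : V ⟶ W) (hh : R (h ≫ a)), resM M h p = T W a h hh v := by
    intro W a v
    have hsh := (resM_isSheaf M) _ ((etTop X).pullback_stable a hR)
    let y : Presieve.FamilyOfElements (M.val.presheaf ⋙ forget AddCommGrpCat) (R.pullback a).arrows :=
      fun V h hh => T W a h hh v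
    obtain ⟨p, hp, hu⟩ := hsh y (fun V₁ V₂ Z g₁ g₂ f₁ f₂ h₁ h₂ e => by
      have hh : R ((g₁ ≫ f₁) ≫ a) := by rw [Category.assoc]; exact R.downward_closed h₁ g₁
      show resM M g₁ (T W a f₁ h₁ v) = resM M g₂ (T W a f₂ h₂ v)
      rw [hT W a f₁ g₁ h₁ hh, hT W a f₂ g₂ h₂ (e ▸ hh)]
      congr 2)
    exact ⟨p, fun V h hh => hp h hh, fun q hq => hu q fun V h hh => hq V h hh⟩
  choose φ hφ hu using hglue
  have hext : ∀ (W : EtOver X) (a : W ⟶ E) {p q : sectModEt M W},
      (∀ (V : EtOver X) (h : V ⟶ W), R (h ≫ a) → resM M h p = resM M h q) → p = q := fun W a p q h =>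
    ((resM_isSheaf M) _ ((etTop X).pullback_stable a hR)).isSeparatedFor.ext fun V g hg => h V g hg
  let sA : Raw U M n E := fun W a =>
    { toFun := φ W a
      map_update_add' := fun {dec} v i p q => hext W a fun V h hh => by
        rw [map_add, hφ W a _ V h hh, hφ W a _ V h hh, hφ W a _ V h hh]
        exact (T W a h hh).map_update_add v i p q
      map_update_smul' := fun {dec} v i r p => hext W a fun V h hh => by
        rw [map_zsmul, hφ W a _ V h hh, hφ W a _ V h hh]
        exact (T W a h hh).map_update_smul v i r p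
      map_eq_zero_of_eq' := fun v i j hv hij => hext W a fun V h hh => by
        rw [map_zero, hφ W a _ V h hh]
        exact (T W a h hh).map_eq_zero_of_eq v hv hij }
  have hmem : sA ∈ natFam U M n E := fun W W' k a v => hext W' (k ≫ a) fun V h hh => by
    show resM M h (resM M k (φ W a v)) = resM M h (φ W' (k ≫ a) _)
    have hh' : R ((h ≫ k) ≫ a) := by rw [Category.assoc]; exact hh
    rw [← resM_comp, hφ W a v V (h ≫ k) hh', hφ W' (k ≫ a) _ V h hh]
    show (xv ((h ≫ k) ≫ a) hh').1 V (𝟙 V) _ = (xv (h ≫ k ≫ a) hh).1 V (𝟙 V) _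
    rw [show xv ((h ≫ k) ≫ a) hh' = xv (h ≫ k ≫ a) hh by congr 1]
    exact congrArg _ (funext fun i => pre_comp U h k (v i))
  refine ⟨(⟨sA, hmem⟩ : natFam U M n E), fun V g hg => ?_, fun s' hs' => ?_⟩
  · refine Subtype.ext (funext fun W => funext fun a => AlternatingMap.ext fun v => ?_)
    show φ W (a ≫ g) v = (xv g hg).1 W a v
    have hh : R (𝟙 W ≫ a ≫ g) := by rw [Category.id_comp]; exact R.downward_closed hg a
    have h1 := hφ W (a ≫ g) v W (𝟙 W) hh
    rw [resM_id] at h1
    rw [h1]
    show (xv (𝟙 W ≫ a ≫ g) hh).1 W (𝟙 W) _ = _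
    rw [show xv (𝟙 W ≫ a ≫ g) hh = natMap a (xv g hg) by
      rw [← hxv g hg a]; congr 1]
    show (xv g hg).1 W (𝟙 W ≫ a) _ = _
    rw [Category.id_comp]
    exact congrArg _ (funext fun i => pre_id U (v i))
  · refine Subtype.ext (funext fun W => funext fun a => AlternatingMap.ext fun v => ?_)
    refine hu W a v _ fun V h hh => ?_
    show resM M h ((s' : natFam U M n E).1 W a v) = _
    rw [nat_apply]
    show _ = (xv (h ≫ a) hh).1 V (𝟙 V) _
    rw [show xv (h ≫ a) hh = natMap (h ≫ a) (s' : natFam U M n E) from (hs' (h ≫ a) hh).symm]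
    exact (congrArg (fun c => (s' : natFam U M n E).1 V c _) (Category.id_comp (h ≫ a))).symm

/-- The sheaf of natural families. -/
def altSheaf : AbEt X := ⟨preA U M n, isSheaf_preA U M n⟩

end

end Groth.ModEtQCoh.AltCech
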