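import Groth.Agent.ModEtQCoh.AltCech.Cochain
import Groth.Agent.ModEtQCoh.CoherentUnion
import Mathlib.CategoryTheory.Sites.LocallySurjective
import Mathlib.CategoryTheory.Abelian.Basic

/-!
# The complex of alternating cochains is exact
-/

set_option autoImplicit false
set_option backward.isDefEq.respectTransparency.types false
set_option linter.style.haveILetI false
set_option maxHeartbeats 800000
universe u

open CategoryTheory CategoryTheory.Limits AlgebraicGeometry Opposite AlgSp

namespace Groth.ModEtQCoh.AltCech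

noncomputable section

variable {S : Scheme.{u}} {X : Sp S} (U : EtOver X) (M : ModEt X)

/-- The augmentation. -/
def eps (W : EtOver X) : Ch U W →ₗ[ℤ] ℤ := Finsupp.linearCombination ℤ fun _ => (1 : ℤ)

theorem eps_e {W : EtOver X} (l : W ⟶ U) : eps U W (e l) = 1 :=
  (Finsupp.linearCombination_single ℤ 1 l).trans (one_smul ℤ _)

theorem eps_pre {W W' : EtOver X} (h : W' ⟶ W) (v : Ch U W) : eps U W' (pre U h v) = eps U W v :=
  Finsupp.linearCombination_mapDomain _ _ _

/-- The differential on values. -/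
def dfib (W : EtOver X) {n : ℕ} (f : Ch U W [⋀^Fin n]→ₗ[ℤ] sectModEt M W) :
    Ch U W [⋀^Fin (n + 1)]→ₗ[ℤ] sectModEt M W :=
  AlternatingMap.alternatizeUncurryFin ((eps U W).smulRight f)

theorem dfib_apply (W : EtOver X) {n : ℕ} (f : Ch U W [⋀^Fin n]→ₗ[ℤ] sectModEt M W) (v : Fin (n + 1) → Ch U W) :
    dfib U M W f v = ∑ i : Fin (n + 1), (-1 : ℤ) ^ (i : ℕ) • (eps U W (v i) • f (Fin.removeNth i v)) := by
  rw [dfib, AlternatingMap.alternatizeUncurryFin_apply]
  rfl

theorem dfib_add (W : EtOver X) {n : ℕ} (f g : Ch U W [⋀^Fin n]→ₗ[ℤ] sectModEt M W) :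
    dfib U M W (f + g) = dfib U M W f + dfib U M W g := by
  ext v
  simp only [dfib_apply, AlternatingMap.add_apply, smul_add, Finset.sum_add_distrib]

theorem dfib_dfib (W : EtOver X) {n : ℕ} (f : Ch U W [⋀^Fin n]→ₗ[ℤ] sectModEt M W) :
    dfib U M W (dfib U M W f) = 0 := by
  refine Eq.trans ?_ (AlternatingMap.alternatizeUncurryFin_alternatizeUncurryFinLM_comp_of_symmetric
    (f := (eps U W).smulRight ((eps U W).smulRight f)) fun x y => ?_)
  · refine congrArg AlternatingMap.alternatizeUncurryFin (LinearMap.ext fun x => ?_)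
    exact (AlternatingMap.alternatizeUncurryFin_smul (eps U W x) ((eps U W).smulRight f)).symm
  · show eps U W x • eps U W y • f = eps U W y • eps U W x • f
    exact smul_comm _ _ _

variable {U M}

/-- The differential of a natural family. -/
def dNat {n : ℕ} (E : EtOver X) : natFam U M n E →+ natFam U M (n + 1) E where
  toFun s := ⟨fun W a => dfib U M W (s.1 W a), fun W W' h a v => by
    show resM M h (dfib U M W (s.1 W a) v) = dfib U M W' (s.1 W' (h ≫ a)) fun i => pre U h (v i)
    simp only [dfib_apply, map_sum, map_zsmul, eps_pre]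
    refine Finset.sum_congr rfl fun i _ => ?_
    rw [nat_apply]
    rfl⟩
  map_zero' := Subtype.ext (funext fun W => funext fun a => by
    show dfib U M W 0 = 0
    ext v
    simp [dfib_apply])
  map_add' s t := Subtype.ext (funext fun W => funext fun a => dfib_add U M W (s.1 W a) (t.1 W a))

variable (U M)

/-- The differential. -/
def dHom (n : ℕ) : altSheaf U M n ⟶ altSheaf U M (n + 1) :=
  ⟨{ app := fun E => AddCommGrpCat.ofHom (dNat E.unop), naturality := fun _ _ _ => rfl }⟩

theorem dHom_comp (n : ℕ) : dHom U M n ≫ dHom U M (n + 1) = 0 := by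
  refine Sheaf.hom_ext (NatTrans.ext (funext fun E => ConcreteCategory.ext (AddMonoidHom.ext fun s => ?_)))
  exact Subtype.ext (funext fun W => funext fun a => dfib_dfib U M W _)

variable {U M}

theorem dfib_cons {W : EtOver X} {m : ℕ} (f : Ch U W [⋀^Fin (m + 1)]→ₗ[ℤ] sectModEt M W) (l : W ⟶ U)
    (h : dfib U M W f = 0) : f = dfib U M W (f.curryLeft (e l)) := by
  ext v
  have h' : dfib U M W f (Matrix.vecCons (e l) v) = 0 := by rw [h]; rfl
  rw [dfib_apply, Fin.sum_univ_succ] at h'
  simp only [Matrix.vecCons, Fin.cons_zero, Fin.cons_succ, eps_e, one_smul, Fin.val_zero, pow_zero,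
    Fin.removeNth_zero, Fin.tail_cons, Fin.val_succ] at h'
  rw [dfib_apply]
  refine (eq_neg_of_add_eq_zero_left h').trans ?_
  rw [← Finset.sum_neg_distrib]
  refine Finset.sum_congr rfl fun i _ => ?_
  rw [pow_succ, mul_neg, mul_one, neg_smul, neg_neg, AlternatingMap.curryLeft_apply_apply, Matrix.vecCons]
  congr 3
  funext j
  refine Fin.cases ?_ (fun j => ?_) j
  · simp [Fin.removeNth_apply]
  · simp [Fin.removeNth_apply]

theorem eq_zero_of_dfib {W : EtOver X} (f : Ch U W [⋀^Fin 0]→ₗ[ℤ] sectModEt M W) (l : W ⟶ U)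
    (h : dfib U M W f = 0) : f = 0 := by
  ext v
  have h' : dfib U M W f (fun _ => e l) = 0 := by rw [h]; rfl
  rw [dfib_apply, Fin.sum_univ_one, eps_e, one_smul, Fin.val_zero, pow_zero, one_smul] at h'
  rw [Subsingleton.elim v (Fin.removeNth 0 fun _ => e l)]
  exact h'

/-- Locally a cocycle is a coboundary. -/
theorem exists_dNat_eq {n : ℕ} {E : EtOver X} (l : E ⟶ U) (s : natFam U M (n + 1) E)
    (h : dNat E s = 0) : ∃ t : natFam U M n E, dNat E t = s := by
  refine ⟨⟨fun W a => (s.1 W a).curryLeft (e (a ≫ l)), fun W W' k a v => ?_⟩,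
    Subtype.ext (funext fun W => funext fun a => (dfib_cons (s.1 W a) (a ≫ l) ?_).symm)⟩
  · show resM M k (s.1 W a (Matrix.vecCons (e (a ≫ l)) v)) =
      s.1 W' (k ≫ a) (Matrix.vecCons (e ((k ≫ a) ≫ l)) fun i => pre U k (v i))
    rw [nat_apply]
    congr 1
    funext i
    refine Fin.cases ?_ (fun j => ?_) i
    · show pre U k (e (a ≫ l)) = e ((k ≫ a) ≫ l)
      rw [pre_e, Category.assoc]
    · rfl
  · exact congrFun (congrFun (congrArg Subtype.val h) W) a

theorem eq_zero_of_dNat {E : EtOver X} (l : E ⟶ U) (s : natFam U M 0 E) (h : dNat E s = 0) : s = 0 :=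
  Subtype.ext (funext fun W => funext fun a =>
    eq_zero_of_dfib (s.1 W a) (a ≫ l) (congrFun (congrFun (congrArg Subtype.val h) W) a))

variable (U M)

/-- The cocycles. -/
abbrev cocycles (n : ℕ) : AbEt X := kernel (dHom U M n)

/-- The differential into cocycles. -/
def dCo (n : ℕ) : altSheaf U M n ⟶ cocycles U M (n + 1) := kernel.lift _ (dHom U M n) (dHom_comp U M n)

theorem dCo_ι (n : ℕ) : dCo U M n ≫ kernel.ι (dHom U M (n + 1)) = dHom U M n := kernel.lift_ι _ _ _

/-- The short sequence of cocycles. -/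
def seq (n : ℕ) : ShortComplex (AbEt X) :=
  ShortComplex.mk (X₁ := cocycles U M n) (kernel.ι (dHom U M n)) (dCo U M n)
    (by
      haveI : Mono (kernel.ι (dHom U M (n + 1))) := inferInstance
      rw [← cancel_mono (kernel.ι (dHom U M (n + 1))), Category.assoc, dCo_ι, kernel.condition, zero_comp])

variable (hsurj : Function.Surjective (Points.ofPt U.obj.hom))

include hsurj in
theorem mem_etTop_prodFst (E : EtOver X) :
    Sieve.generate (Presieve.ofArrows (fun _ : Unit => EtOver.prodObj E U) fun _ => EtOver.prodFst E U) ∈ etTop X E := by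
  refine ofArrows_mem_etTop (fun _ : Unit => EtOver.prodObj E U) (fun _ => EtOver.prodFst E U) fun x => ⟨(), ?_⟩
  obtain ⟨y, hy⟩ := hsurj (Points.ofPt E.obj.hom x)
  rw [Groth.AlgSpBasic.ofPt_eq_map U.obj.hom y] at hy
  obtain ⟨v, -, hv⟩ := (Groth.AlgSpBasic.map_eq_ofPt_iff (U.property.1.isPullback E.obj.hom) _ x).1 hy
  exact ⟨v, hv⟩

/-- A monomorphism of abelian sheaves is injective on sections. -/
theorem app_injective {F G : AbEt X} (i : F ⟶ G) [Mono i] (E : (EtOver X)ᵒᵖ) :
    Function.Injective (i.hom.app E) := by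
  haveI : Mono i.hom := (sheafToPresheaf (etTop X) AddCommGrpCat.{u + 1}).map_mono i
  haveI : Mono (i.hom.app E) := inferInstance
  exact (AddCommGrpCat.mono_iff_injective _).1 inferInstance

set_option maxHeartbeats 1600000 in
include hsurj in
theorem epi_dCo (n : ℕ) : Epi (dCo U M n) := by
  rw [← Sheaf.isLocallySurjective_iff_epi' AddCommGrpCat.{u + 1}]
  refine ⟨fun {E} t => (etTop X).superset_covering ?_ (mem_etTop_prodFst U hsurj E)⟩
  rw [Sieve.generate_le_iff]
  rintro Z g ⟨⟩
  let k : op E ⟶ op (EtOver.prodObj E U) := (EtOver.prodFst E U).op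
  let c := kernel.ι (dHom U M (n + 1))
  let t' : natFam U M (n + 1) (EtOver.prodObj E U) := natMap (EtOver.prodFst E U) (c.hom.app (op E) t)
  have ht : dNat (EtOver.prodObj E U) t' = 0 := by
    have h0 : dNat E (c.hom.app (op E) t) = (0 : natFam U M (n + 1 + 1) E) :=
      (ConcreteCategory.congr_hom (congrArg (fun φ => φ.hom.app (op E)) (kernel.condition (dHom U M (n + 1)))) t)
    refine Eq.trans ?_ ((congrArg (natMap (EtOver.prodFst E U)) h0).trans (map_zero _))
    rfl
  obtain ⟨x, hx⟩ := exists_dNat_eq (EtOver.prodSnd E U) t' ht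
  refine ⟨x, app_injective c _ ?_⟩
  refine (ConcreteCategory.congr_hom (congrArg (fun φ : altSheaf U M n ⟶ altSheaf U M (n + 1) => φ.hom.app (op (EtOver.prodObj E U))) (dCo_ι U M n)) x).trans ?_
  refine hx.trans ?_
  exact (ConcreteCategory.congr_hom (c.hom.naturality k) t).symm

include hsurj in
theorem seq_shortExact (n : ℕ) : (seq U M n).ShortExact where
  exact := ShortComplex.exact_of_f_is_kernel _ (isKernelOfComp (kernel.ι (dHom U M (n + 1)))
    (dHom U M n) (kernelIsKernel _) (seq U M n).zero (dCo_ι U M n))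
  mono_f := inferInstanceAs (Mono (kernel.ι (dHom U M n)))
  epi_g := epi_dCo U M hsurj n

include hsurj in
theorem mono_dHom_zero : Mono (dHom U M 0) := by
  haveI : ∀ E, Mono ((dHom U M 0).hom.app E) := fun E => by
    refine (AddCommGrpCat.mono_iff_injective _).2 ((injective_iff_map_eq_zero _).2 fun s hs => ?_)
    refine Subtype.ext (funext fun W => funext fun a => AlternatingMap.ext fun v => ?_)
    show (s : natFam U M 0 E.unop).1 W a v = 0
    refine resM_ext M (g := fun _ : Unit => EtOver.prodFst W U) ?_ fun _ => ?_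
    · intro x
      obtain ⟨y, hy⟩ := hsurj (Points.ofPt W.obj.hom x)
      rw [Groth.AlgSpBasic.ofPt_eq_map U.obj.hom y] at hy
      obtain ⟨z, -, hz⟩ := (Groth.AlgSpBasic.map_eq_ofPt_iff (U.property.1.isPullback W.obj.hom) _ x).1 hy
      exact ⟨(), z, hz⟩
    · rw [map_zero, nat_apply]
      exact DFunLike.congr_fun (eq_zero_of_dfib ((s : natFam U M 0 E.unop).1 _ (EtOver.prodFst W U ≫ a))
        (EtOver.prodSnd W U) (congrFun (congrFun (congrArg Subtype.val hs) _) _)) _
  haveI : Mono (dHom U M 0).hom := NatTrans.mono_of_mono_app _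
  exact (sheafToPresheaf (etTop X) AddCommGrpCat.{u + 1}).mono_of_mono_map this

end

end Groth.ModEtQCoh.AltCech
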