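import Groth.Agent.ModEtQCoh.AltCech.Weight
import Groth.Agent.ModEtQCoh.AltCech.Cochain
import Groth.Agent.ModEtQCoh.EtaleRestrict
import Groth.Agent.ModEtQCoh.PullExist
import Groth.Agent.ModEtQCoh.PullEt
import Groth.Agent.ModEtQCoh.Vanish.PushCohom
import Mathlib.LinearAlgebra.Multilinear.Basic

/-!
# The sheaves of alternating cochains are acyclic
-/

set_option autoImplicit false
set_option backward.isDefEq.respectTransparency.types false
set_option linter.style.haveILetI false
set_option maxHeartbeats 800000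
universe u

open CategoryTheory CategoryTheory.Limits CategoryTheory.Abelian AlgebraicGeometry Opposite AlgSp

namespace Groth.ModEtQCoh.AltCech

noncomputable section

variable {S : Scheme.{u}} {X : Sp S} (Q : EtOver X) (M : ModEt X)

/-- The product with `Q`, by composition. -/
abbrev pb (E : EtOver X) : EtOver X := (postEt Q.property).obj (EtOver.bcObj Q.property.1 E)

/-- Restriction of the module to `Q`, pushed forward. -/
abbrev pushRestrict : ModEt X :=
  (pushModEt Q.property.1).obj ((SheafOfModules.pushforward.{u + 1} (postHomEt Q.property)).obj M)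

variable {Q}

/-- The projection to the base. -/
def pbFst (E : EtOver X) : pb Q E ⟶ E :=
  (postEtHomEquiv Q.property.1 Q.property _ E).symm (𝟙 _)

/-- The projection to `Q`. -/
def pbSnd (E : EtOver X) : pb Q E ⟶ Q :=
  EtOver.homMk (Q.property.1.fst' E.obj.hom) (congrArg (· ≫ Q.obj.hom) (Q.property.1.map_fst' E.obj.hom))

theorem map_pbSnd (E : EtOver X) : (yon S).map (pbSnd (Q := Q) E).hom.left = Q.property.1.fst E.obj.hom :=
  Q.property.1.map_fst' E.obj.hom

/-- Restriction of products. -/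
def pbMap {E E' : EtOver X} (g : E' ⟶ E) : pb Q E' ⟶ pb Q E :=
  (postEt Q.property).map (EtOver.bcMap Q.property.1 g)

/-- Maps into the product. -/
def pbLift {W E : EtOver X} (a : W ⟶ E) (c : W ⟶ Q) : W ⟶ pb Q E :=
  EtOver.homMk (Q.property.1.lift ((yon S).map c.hom.left) a.hom.left ((EtOver.w c).trans (EtOver.w a).symm)) (by
    show (yon S).map _ ≫ Q.property.1.fst E.obj.hom ≫ Q.obj.hom = W.obj.hom
    rw [← Category.assoc, Q.property.1.lift_fst]
    exact EtOver.w c)

theorem pbLift_fst {W E : EtOver X} (a : W ⟶ E) (c : W ⟶ Q) : pbLift a c ≫ pbFst E = a := by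
  refine EtOver.hom_ext _ _ ?_
  show Q.property.1.lift _ a.hom.left _ ≫ 𝟙 _ ≫ Q.property.1.snd E.obj.hom = a.hom.left
  rw [Category.id_comp]
  exact Q.property.1.lift_snd _ _ _

theorem pbLift_snd {W E : EtOver X} (a : W ⟶ E) (c : W ⟶ Q) : pbLift a c ≫ pbSnd E = c := by
  refine EtOver.hom_ext _ _ ((yon S).map_injective ?_)
  refine ((yon S).map_comp _ _).trans ?_
  refine (congrArg (_ ≫ ·) (map_pbSnd E)).trans ?_
  exact Q.property.1.lift_fst _ _ _

theorem pb_hom_ext {W E : EtOver X} {u v : W ⟶ pb Q E} (h₁ : u ≫ pbFst E = v ≫ pbFst E)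
    (h₂ : u ≫ pbSnd E = v ≫ pbSnd E) : u = v := by
  refine EtOver.hom_ext _ _ (Q.property.1.hom_ext ?_ ?_)
  · have := congrArg (fun k : W ⟶ Q => (yon S).map k.hom.left) h₂
    exact (congrArg (_ ≫ ·) (map_pbSnd E).symm).trans (((yon S).map_comp _ _).symm.trans
      (this.trans (((yon S).map_comp _ _).trans (congrArg (_ ≫ ·) (map_pbSnd E)))))
  · have := congrArg (fun k : W ⟶ E => k.hom.left) h₁
    exact (congrArg (_ ≫ ·) (Category.id_comp _).symm).trans (this.trans (congrArg (_ ≫ ·) (Category.id_comp _)))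

theorem pbMap_fst {E E' : EtOver X} (g : E' ⟶ E) : pbMap g ≫ pbFst (Q := Q) E = pbFst E' ≫ g := by
  refine EtOver.hom_ext _ _ ?_
  show (EtOver.bcMap Q.property.1 g).hom.left ≫ 𝟙 _ ≫ Q.property.1.snd E.obj.hom =
    (𝟙 _ ≫ Q.property.1.snd E'.obj.hom) ≫ g.hom.left
  rw [Category.id_comp, Category.id_comp]
  exact EtOver.bcMap_snd _ _

theorem pbMap_snd {E E' : EtOver X} (g : E' ⟶ E) : pbMap g ≫ pbSnd (Q := Q) E = pbSnd E' := by
  refine EtOver.hom_ext _ _ ((yon S).map_injective ?_)
  refine ((yon S).map_comp _ _).trans ((congrArg (_ ≫ ·) (map_pbSnd E)).trans (Eq.trans ?_ (map_pbSnd E').symm))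
  exact Q.property.1.lift_fst _ _ _

theorem pbLift_pbMap {W E E' : EtOver X} (g : E' ⟶ E) (a : W ⟶ E') (c : W ⟶ Q) :
    pbLift a c ≫ pbMap g = pbLift (a ≫ g) c := by
  refine pb_hom_ext ?_ ?_
  · rw [Category.assoc, pbMap_fst, ← Category.assoc, pbLift_fst, pbLift_fst]
  · rw [Category.assoc, pbMap_snd, pbLift_snd, pbLift_snd]

theorem comp_pbLift {W W' E : EtOver X} (h : W' ⟶ W) (a : W ⟶ E) (c : W ⟶ Q) :
    h ≫ pbLift a c = pbLift (h ≫ a) (h ≫ c) :=
  pb_hom_ext (by rw [Category.assoc, pbLift_fst, pbLift_fst]) (by rw [Category.assoc, pbLift_snd, pbLift_snd])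

variable {M} {U : EtOver X} {n : ℕ}

/-- The value of the retraction. -/
def rVal [IsAffine U.obj.left.left] (P : Pow U n) (b : fnA P.obj) {E : EtOver X} (t : sectModEt M (pb P.obj E))
    (W : EtOver X) (a : W ⟶ E) : Ch U W [⋀^Fin n]→ₗ[ℤ] sectModEt M W :=
  MultilinearMap.alternatization (mlin n fun v => resA (P.lift v) b • resM M (pbLift a (P.lift v)) t)

theorem rVal_e [IsAffine U.obj.left.left] (P : Pow U n) (b : fnA P.obj) {E : EtOver X}
    (t : sectModEt M (pb P.obj E)) (W : EtOver X) (a : W ⟶ E) (v : Fin n → (W ⟶ U)) :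
    rVal P b t W a (fun i => e (v i)) = ∑ σ : Equiv.Perm (Fin n), Equiv.Perm.sign σ •
      (resA (P.lift (v ∘ σ)) b • resM M (pbLift a (P.lift (v ∘ σ))) t) := by
  rw [rVal, MultilinearMap.alternatization_apply]
  refine Finset.sum_congr rfl fun σ _ => ?_
  exact congrArg (Equiv.Perm.sign σ • ·) (mlin_single n _ (v ∘ σ))

theorem comp_lift [IsAffine U.obj.left.left] (P : Pow U n) {W W' : EtOver X} (h : W' ⟶ W) (v : Fin n → (W ⟶ U)) :
    h ≫ P.lift v = P.lift fun i => h ≫ v i := P.ext fun i => by rw [Category.assoc, P.fac, P.fac]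

variable (M) [IsAffine U.obj.left.left] (P : Pow U n) (b : fnA P.obj)

/-- Evaluation on the universal tuple. -/
def toPush : altSheaf U M n ⟶ (toAbEt X).obj (pushRestrict P.obj M) :=
  ⟨{ app := fun E => AddCommGrpCat.ofHom (AddMonoidHom.mk'
        (fun s : natFam U M n E.unop => (s.1 (pb P.obj E.unop) (pbFst E.unop) fun i => e (pbSnd E.unop ≫ P.π i) :
          sectModEt M (pb P.obj E.unop))) fun _ _ => rfl)
     naturality := fun E E' g => ConcreteCategory.ext (AddMonoidHom.ext fun s => by
        show (s : natFam U M n E.unop).1 (pb P.obj E'.unop) (pbFst E'.unop ≫ g.unop) _ =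
          resM M (pbMap g.unop) ((s : natFam U M n E.unop).1 (pb P.obj E.unop) (pbFst E.unop) _)
        rw [nat_e, pbMap_fst]
        exact congrArg _ (funext fun i => congrArg e
          ((congrArg (· ≫ P.π i) (pbMap_snd g.unop)).symm.trans (Category.assoc _ _ _)))) }⟩

theorem rVal_mem {E : EtOver X} (t : sectModEt M (pb P.obj E)) : (rVal P b t : Raw U M n E) ∈ natFam U M n E := by
  refine mem_natFam _ fun W W' h a v => ?_
  rw [rVal_e, rVal_e, map_sum]
  refine Finset.sum_congr rfl fun σ _ => ?_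
  rw [Units.smul_def, Units.smul_def, map_zsmul, LinearMap.map_smulₛₗ, ← resM_comp, comp_pbLift]
  show _ • (resA (h ≫ P.lift (v ∘ σ)) b • _) = _
  rw [comp_lift]
  rfl

/-- Averaging over permutations, on one object. -/
def ofPushApp (E : EtOver X) : sectModEt M (pb P.obj E) →+ natFam U M n E where
  toFun t := ⟨rVal P b t, rVal_mem M P b t⟩
  map_zero' := natFam_ext fun W a v => by
    show rVal P b 0 W a (fun i => e (v i)) = 0
    rw [rVal_e]
    simp only [map_zero, smul_zero, Finset.sum_const_zero]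
  map_add' t t' := natFam_ext fun W a v => by
    show rVal P b (t + t') W a (fun i => e (v i)) = rVal P b t W a (fun i => e (v i)) + rVal P b t' W a (fun i => e (v i))
    simp only [rVal_e, map_add, smul_add, Finset.sum_add_distrib]

theorem ofPushApp_natural {E E' : EtOver X} (g : E' ⟶ E) (t : sectModEt M (pb P.obj E)) :
    ofPushApp M P b E' (resM M (pbMap g) t) = natMap g (ofPushApp M P b E t) :=
  natFam_ext fun W a v => by
    show rVal P b (resM M (pbMap g) t) W a (fun i => e (v i)) = rVal P b t W (a ≫ g) (fun i => e (v i))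
    rw [rVal_e, rVal_e]
    exact Finset.sum_congr rfl fun σ _ => by rw [← resM_comp, pbLift_pbMap]

/-- Averaging over permutations. -/
def ofPush : (toAbEt X).obj (pushRestrict P.obj M) ⟶ altSheaf U M n :=
  ⟨{ app := fun E => AddCommGrpCat.ofHom (ofPushApp M P b E.unop)
     naturality := fun _ _ g => ConcreteCategory.ext (AddMonoidHom.ext fun t => ofPushApp_natural M P b g.unop t) }⟩

theorem toPush_ofPush (hb : ∀ {W : EtOver X} (v : Fin n → (W ⟶ U)) (s : sectModEt M W),
    (∀ (V : EtOver X) (h : V ⟶ W) (i j : Fin n), i ≠ j → h ≫ v i = h ≫ v j → resM M h s = 0) →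
    (∑ σ : Equiv.Perm (Fin n), resA (P.lift (v ∘ σ)) b) • s = s) :
    toPush M P ≫ ofPush M P b = 𝟙 _ := by
  refine Sheaf.hom_ext (NatTrans.ext (funext fun E => ConcreteCategory.ext (AddMonoidHom.ext fun s =>
    natFam_ext fun W a v => ?_)))
  let s' : natFam U M n E.unop := s
  show rVal P b (s'.1 (pb P.obj E.unop) (pbFst E.unop) fun i => e (pbSnd E.unop ≫ P.π i)) W a _ =
    s'.1 W a fun i => e (v i)
  rw [rVal_e]
  refine Eq.trans (Finset.sum_congr rfl fun σ _ => ?_)
    ((Finset.sum_smul).symm.trans (hb v (s'.1 W a fun i => e (v i)) fun V h i j hij hv => ?_))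
  · rw [nat_e, pbLift_fst]
    have e1 : (fun i => e (pbLift a (P.lift (v ∘ σ)) ≫ pbSnd E.unop ≫ P.π i)) = (fun i => e (v i)) ∘ σ := by
      funext i
      show e _ = e (v (σ i))
      rw [← Category.assoc, pbLift_snd, P.fac]
      rfl
    rw [e1, AlternatingMap.map_perm, Units.smul_def, Units.smul_def, smul_comm, smul_smul, ← Units.val_mul,
      Int.units_mul_self, Units.val_one, one_smul]
  · rw [nat_e]
    exact AlternatingMap.map_eq_zero_of_eq _ _ (congrArg e hv) hij

end

end Groth.ModEtQCoh.AltCech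

namespace Groth.ModEtQCoh.AltCech

noncomputable section

variable {S : Scheme.{u}} [S.IsSeparated] {X : Space S} (hsep : IsSeparatedSp X.obj) (U : EtOver X.obj)
  [IsAffine U.obj.left.left] (M : ModEt X.obj) [M.IsQuasicoherent]

attribute [local instance] PullExist.isRightAdjoint_push

omit [IsAffine U.obj.left.left] in
include hsep in
/-- An affine chart of a separated space is affine over it. -/
theorem repWith_isAffineHom (Q : EtOver X.obj) [IsAffine Q.obj.left.left] : RepWith @IsAffineHom Q.obj.hom := by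
  refine Groth.AlgSpBasic.isAffineMor_iff_repWith.1 fun Z hZ g => ?_
  refine ⟨Q.property.1.pullback g, Q.property.1.snd g, Q.property.1.fst g, Q.property.1.isPullback g, ?_⟩
  haveI := hZ
  exact isAffine_of_isPullback_yon hsep (Q.property.1.isPullback' g)

omit [IsAffine U.obj.left.left] in
include hsep in
theorem subsingleton_HEt_pushRestrict (Q : EtOver X.obj) [IsAffine Q.obj.left.left] (j : ℕ) :
    Subsingleton (HEt X.obj ((toAbEt X.obj).obj (pushRestrict Q M)) (j + 1)) := by
  let T : Space S := ⟨(yon S).obj Q.obj.left, IsAlgSpace.yon_obj _⟩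
  let g : T.obj ⟶ X.obj := Q.obj.hom
  let R : ModEt T.obj := (SheafOfModules.pushforward.{u + 1} (postHomEt (f := g) Q.property)).obj M
  haveI : ((pullModEt (f := g) Q.property.1).obj M).IsQuasicoherent := isQuasicoherent_pull _ X.property M
  haveI : R.IsQuasicoherent :=
    ObjectProperty.prop_of_iso (SheafOfModules.isQuasicoherent (OEtRing T.obj))
      ((pullIsoRestrict Q.property.1 Q.property).app M)
      (inferInstanceAs ((pullModEt (f := g) Q.property.1).obj M).IsQuasicoherent)
  obtain ⟨e⟩ := Groth.EtVan.nonempty_HEt_pushEt (X := T) (Y := X) Q.property.1 (repWith_isAffineHom hsep Q) _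
    (Groth.EtVan.cechAcyclic_toAbEt R) (j + 1)
  haveI : Subsingleton (HModEt T.obj R (j + 1)) :=
    Groth.EtVan.subsingleton_HModEt_of_iso Q.obj.left (Iso.refl _) R j
  exact e.symm.toEquiv.subsingleton

include hsep in
/-- The sheaves of alternating cochains are acyclic. -/
theorem subsingleton_HEt_altSheaf (k j : ℕ) : Subsingleton (HEt X.obj (altSheaf U M (k + 1)) (j + 1)) := by
  obtain ⟨P⟩ := nonempty_pow hsep U k
  obtain ⟨b, hb⟩ := exists_trace_eq hsep P M
  haveI := P.affine
  haveI := subsingleton_HEt_pushRestrict hsep M P.obj j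
  refine subsingleton_of_forall_eq 0 fun x => ?_
  have e : (x.comp (Ext.mk₀ (toPush M P)) (add_zero _)).comp (Ext.mk₀ (ofPush M P b)) (add_zero _) = x := by
    rw [Ext.comp_assoc_of_second_deg_zero, Ext.mk₀_comp_mk₀, toPush_ofPush M P b hb, Ext.comp_mk₀_id]
  rw [← e, Subsingleton.elim (x.comp (Ext.mk₀ (toPush M P)) (add_zero _)) 0, Ext.zero_comp]

end

end Groth.ModEtQCoh.AltCech
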