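import Groth.Agent.ModEtQCoh.AltCech.Complex
import Groth.Agent.ModEtQCoh.AltCech.Retract
import Mathlib.AlgebraicGeometry.ResidueField
import Mathlib.Algebra.Homology.DerivedCategory.Ext.ExactSequences

/-!
# Vanishing of quasi-coherent cohomology above the bound on the geometric fibres
-/

set_option autoImplicit false
set_option backward.isDefEq.respectTransparency.types false
set_option linter.style.haveILetI false
set_option maxHeartbeats 800000
universe u

open CategoryTheory CategoryTheory.Limits CategoryTheory.Abelian AlgebraicGeometry Opposite AlgSp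

namespace Groth.ModEtQCoh.AltCech

noncomputable section

variable {S : Scheme.{u}} {X : Sp S} (U : EtOver X) (M : ModEt X)

/-- In degree zero one recovers the module. -/
def zeroIso : altSheaf U M 0 ≅ (toAbEt X).obj M where
  hom := ⟨{ app := fun E => AddCommGrpCat.ofHom (AddMonoidHom.mk'
        (fun s : natFam U M 0 E.unop => (s.1 E.unop (𝟙 _) Fin.elim0 : sectModEt M E.unop)) fun _ _ => rfl)
            naturality := fun E E' g => ConcreteCategory.ext (AddMonoidHom.ext fun s => by
              show (s : natFam U M 0 E.unop).1 E'.unop (𝟙 _ ≫ g.unop) Fin.elim0 =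
                resM M g.unop ((s : natFam U M 0 E.unop).1 E.unop (𝟙 _) Fin.elim0)
              rw [nat_apply, Category.id_comp, Category.comp_id]
              exact congrArg _ (Subsingleton.elim _ _)) }⟩
  inv := ⟨{ app := fun E => AddCommGrpCat.ofHom (AddMonoidHom.mk'
        (fun p : sectModEt M E.unop =>
          (⟨fun W a => AlternatingMap.constOfIsEmpty ℤ (Ch U W) (Fin 0) (resM M a p),
            fun W W' h a v => (resM_comp M h a p).symm⟩ : natFam U M 0 E.unop))
        fun p q => natFam_ext fun W a v => map_add (resM M a) p q)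
            naturality := fun E E' g => ConcreteCategory.ext (AddMonoidHom.ext fun p => natFam_ext fun W a v => by
              show resM M a (resM M g.unop (p : sectModEt M E.unop)) = resM M (a ≫ g.unop) (p : sectModEt M E.unop)
              rw [resM_comp]) }⟩
  hom_inv_id := Sheaf.hom_ext (NatTrans.ext (funext fun E => ConcreteCategory.ext (AddMonoidHom.ext fun s =>
    natFam_ext fun W a v => by
      show resM M a ((s : natFam U M 0 E.unop).1 E.unop (𝟙 _) Fin.elim0) =
        (s : natFam U M 0 E.unop).1 W a (fun i => e (v i))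
      rw [nat_apply, Category.comp_id]
      exact congrArg _ (Subsingleton.elim _ _))))
  inv_hom_id := Sheaf.hom_ext (NatTrans.ext (funext fun E => ConcreteCategory.ext (AddMonoidHom.ext fun p => by
    show resM M (𝟙 E.unop) (p : sectModEt M E.unop) = p
    exact resM_id M _)))

/-- A point of an object of the site with more tuples than lifts lies in an agreement locus. -/
theorem exists_mem_coincide {d n : ℕ} (hn : d < n)
    (hd : ∀ x : FieldPt X, x.IsGeometric → ENat.card ((FieldPt.liftsTo x).obj U) ≤ d)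
    {W : EtOver X} (v : Fin n → (W ⟶ U)) (w : ↥W.obj.left.left) :
    ∃ i j, i ≠ j ∧ w ∈ coincide U (v i) (v j) := by
  let k := W.obj.left.left.residueField w
  let K := AlgebraicClosure k
  let ω₀ : Spec (CommRingCat.of K) ⟶ W.obj.left.left :=
    Spec.map (CommRingCat.ofHom (algebraMap k K)) ≫ W.obj.left.left.fromSpecResidueField w
  let ω : Over.mk (ω₀ ≫ W.obj.left.hom) ⟶ W.obj.left := Over.homMk ω₀ rfl
  let x : FieldPt X := Groth.AlgSp2.ofHom ((yon S).map ω ≫ W.obj.hom)
  have hx : x.IsGeometric := AlgebraicClosure.isAlgClosed k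
  let F : Fin n → (FieldPt.liftsTo x).obj U := fun i => ⟨ω ≫ (v i).hom.left, by
    rw [Groth.AlgSp2.toHom_ofHom, Functor.map_comp, Category.assoc, EtOver.w]
    rfl⟩
  have hF : ¬ Function.Injective F := fun h => by
    have h1 : ENat.card (Fin n) ≤ d := (ENat.card_le_card_of_injective h).trans (hd x hx)
    rw [ENat.card_eq_coe_fintype_card, Fintype.card_fin, Nat.cast_le] at h1
    omega
  obtain ⟨i, j, hij, hne⟩ := Function.not_injective_iff.1 hF
  refine ⟨i, j, hne, ?_⟩
  have h2 := mem_coincide_of_fieldPt U ω (v i) (v j) (congrArg Subtype.val hij) ⟨⊥, Ideal.isPrime_bot⟩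
  have e : ω.left ⟨⊥, Ideal.isPrime_bot⟩ = w :=
    Scheme.fromSpecResidueField_apply w _
  exact e ▸ h2

/-- Above the bound there are no alternating cochains. -/
theorem isZero_altSheaf {d n : ℕ} (hn : d < n)
    (hd : ∀ x : FieldPt X, x.IsGeometric → ENat.card ((FieldPt.liftsTo x).obj U) ≤ d) :
    IsZero (altSheaf U M n) := by
  refine (IsZero.iff_id_eq_zero _).2 (Sheaf.hom_ext (NatTrans.ext (funext fun E =>
    ConcreteCategory.ext (AddMonoidHom.ext fun s => natFam_ext fun W a v => ?_))))
  show (s : natFam U M n E.unop).1 W a (fun i => e (v i)) = 0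
  choose Y g hg hcov using fun p : Fin n × Fin n => exists_coincide_piece U (v p.1) (v p.2)
  refine resM_ext M (g := fun p : {p : Fin n × Fin n // p.1 ≠ p.2} => g p.1) (fun w => ?_) fun p => ?_
  · obtain ⟨i, j, hij, hw⟩ := exists_mem_coincide U hn hd v w
    exact ⟨⟨(i, j), hij⟩, hcov (i, j) hw⟩
  · rw [map_zero, nat_e]
    exact AlternatingMap.map_eq_zero_of_eq _ _ (congrArg e (hg p.1)) p.2

end

end Groth.ModEtQCoh.AltCech

namespace Groth.ModEtQCoh.AltCech

noncomputable section

variable {S : Scheme.{u}} [S.IsSeparated] {X : Space S} (hsep : IsSeparatedSp X.obj) (U : EtOver X.obj)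
  [IsAffine U.obj.left.left] (hsurj : Function.Surjective (Points.ofPt U.obj.hom)) {d : ℕ}
  (hd : ∀ x : FieldPt X.obj, x.IsGeometric → ENat.card ((FieldPt.liftsTo x).obj U) ≤ d)
  (M : ModEt X.obj) [M.IsQuasicoherent]

include hsep hsurj hd in
theorem subsingleton_HEt_cocycles : ∀ q p : ℕ, 1 ≤ p → d + 1 ≤ p + q →
    Subsingleton (HEt X.obj (cocycles U M p) q)
  | 0, p, _, hpq => by
    have h0 : IsZero (altSheaf U M p) := isZero_altSheaf U M (d := d) (by omega) hd
    have hz : IsZero (cocycles U M p) :=
      (IsZero.iff_id_eq_zero _).2 ((cancel_mono (kernel.ι (dHom U M p))).1 (h0.eq_of_tgt _ _))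
    refine subsingleton_of_forall_eq 0 fun x => ?_
    rw [← Ext.comp_mk₀_id x, hz.eq_zero_of_tgt (𝟙 _), Ext.mk₀_zero, Ext.comp_zero]
  | q + 1, p + 1, _, hpq => by
    haveI := subsingleton_HEt_cocycles q (p + 2) (by omega) (by omega)
    haveI := subsingleton_HEt_altSheaf hsep U M p q
    refine subsingleton_of_forall_eq 0 fun x => ?_
    obtain ⟨x₃, hx₃⟩ := Ext.covariant_sequence_exact₁ _ (seq_shortExact U M hsurj (p + 1)) x
      (Subsingleton.elim (α := HEt X.obj (altSheaf U M (p + 1)) (q + 1)) _ _) rfl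
    rw [← hx₃, Subsingleton.elim (α := HEt X.obj (cocycles U M (p + 2)) q) x₃ 0]
    exact map_zero ((seq_shortExact U M hsurj (p + 1)).extClass.postcomp _ (rfl : q + 1 = q + 1))

omit [S.IsSeparated] [IsAffine U.obj.left.left] [M.IsQuasicoherent] in
include hsurj in
theorem isIso_dCo_zero : IsIso (dCo U M 0) := by
  haveI := mono_dHom_zero U M hsurj
  haveI : Mono (dCo U M 0) := mono_of_mono_fac (dCo_ι U M 0)
  haveI := epi_dCo U M hsurj 0
  exact isIso_of_mono_of_epi _

include hsep hsurj hd in
/-- The vanishing. -/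
theorem subsingleton_HModEt {q : ℕ} (hq : d ≤ q) : Subsingleton (HModEt X.obj M q) := by
  haveI := subsingleton_HEt_cocycles hsep U hsurj hd M q 1 le_rfl (by omega)
  haveI := isIso_dCo_zero U hsurj M
  let i : (toAbEt X.obj).obj M ≅ cocycles U M 1 := (zeroIso U M).symm ≪≫ asIso (dCo U M 0)
  refine subsingleton_of_forall_eq 0 fun x => ?_
  have h : (x.comp (Ext.mk₀ i.hom) (add_zero _)).comp (Ext.mk₀ i.inv) (add_zero _) = x := by
    rw [Ext.comp_assoc_of_second_deg_zero, Ext.mk₀_comp_mk₀, i.hom_inv_id, Ext.comp_mk₀_id]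
  rw [← h, Subsingleton.elim (α := HEt X.obj (cocycles U M 1) q) (x.comp (Ext.mk₀ i.hom) (add_zero _)) 0,
    Ext.zero_comp]

end

end Groth.ModEtQCoh.AltCech
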