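import Groth.Agent.ModEtQCoh.SpanFamily
import Groth.Agent.FlatMor2.AlgSpColim.QcSite
import Groth.Agent.AlgSp2.FieldPts
import Mathlib.RingTheory.Invariant.Basic
import Mathlib.RingTheory.Ideal.GoingUp
import Mathlib.LinearAlgebra.LinearIndependent.Basic
import Mathlib.FieldTheory.IsAlgClosed.AlgebraicClosure
import Mathlib.AlgebraicGeometry.Morphisms.Separated
import Mathlib.Logic.Embedding.Basic

/-!
# Weights on powers of an affine chart

On the `n`-fold product of an affine chart with itself over a separated space the symmetric group acts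
freely off the partial diagonals, so some function has trace one there.
-/

set_option autoImplicit false
set_option backward.isDefEq.respectTransparency.types false
set_option linter.style.haveILetI false
set_option maxHeartbeats 800000
universe u

open CategoryTheory CategoryTheory.Limits AlgebraicGeometry Opposite AlgSp Groth.FlatMor2.AlgSpColim

namespace Groth.ModEtQCoh.AltCech

noncomputable section

variable {S : Scheme.{u}} [S.IsSeparated] {X : Sp S} (hsep : IsSeparatedSp X)

include hsep in
/-- Pullbacks of affine schemes over a separated space are affine. -/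
theorem isAffine_of_isPullback_yon {A B W : Over S} [IsAffine A.left] [IsAffine B.left] {p : (yon S).obj A ⟶ X}
    {q : (yon S).obj B ⟶ X} {a : W ⟶ A} {b : W ⟶ B} (sq : IsPullback ((yon S).map a) ((yon S).map b) p q) :
    IsAffine W.left := by
  have hci : IsClosedImmersion (prod.lift a b).left := Groth.AlgSpBasic.prop_lift_of_repWith_diag hsep sq
  have key : ∀ {A B : Scheme.{u}} (g : A ⟶ B), IsClosedImmersion g → IsAffineHom g := fun g _ => inferInstance
  haveI : IsSeparated (terminal.from S) := Scheme.IsSeparated.isSeparated_terminal_from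
  haveI : IsAffineHom A.hom := IsAffineHom.of_comp A.hom (terminal.from S)
  haveI : IsAffineHom (prod.snd : A ⨯ B ⟶ B).left :=
    MorphismProperty.of_isPullback (P := @IsAffineHom) (Groth.AlgSpBasic.isPullback_prod_left A B) inferInstance
  haveI : IsAffine (A ⨯ B).left := isAffine_of_isAffineHom (prod.snd : A ⨯ B ⟶ B).left
  exact @isAffine_of_isAffineHom _ _ (prod.lift a b).left (key _ hci) _

include hsep in
/-- Products of affine objects over a separated space are affine. -/
theorem isAffine_prodObj (E₁ E₂ : EtOver X) [IsAffine E₁.obj.left.left] [IsAffine E₂.obj.left.left] :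
    IsAffine (EtOver.prodObj E₁ E₂).obj.left.left :=
  isAffine_of_isPullback_yon hsep (Functor.relativelyRepresentable.isPullback' E₂.property.1 E₁.obj.hom)

variable (U : EtOver X) [IsAffine U.obj.left.left]

/-- A power of the chart. -/
structure Pow (n : ℕ) where
  obj : EtOver X
  affine : IsAffine obj.obj.left.left
  π : Fin n → (obj ⟶ U)
  lift : ∀ {W : EtOver X}, (Fin n → (W ⟶ U)) → (W ⟶ obj)
  fac : ∀ {W : EtOver X} (u : Fin n → (W ⟶ U)) (i : Fin n), lift u ≫ π i = u i
  ext : ∀ {W : EtOver X} {c c' : W ⟶ obj}, (∀ i, c ≫ π i = c' ≫ π i) → c = c'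

include hsep in
/-- Powers exist. -/
theorem nonempty_pow : ∀ k, Nonempty (Pow U (k + 1))
  | 0 => ⟨{ obj := U, affine := inferInstance, π := fun _ => 𝟙 U, lift := fun u => u 0
            fac := fun u i => by rw [Category.comp_id, Fin.fin_one_eq_zero i]
            ext := fun h => by simpa using h 0 }⟩
  | k + 1 => by
    obtain ⟨P⟩ := nonempty_pow k
    haveI := P.affine
    let L := EtOver.prodIsLimit P.obj U
    refine ⟨{ obj := EtOver.prodObj P.obj U
              affine := isAffine_prodObj hsep P.obj U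
              π := Fin.snoc (fun i => EtOver.prodFst P.obj U ≫ P.π i) (EtOver.prodSnd P.obj U)
              lift := fun u => L.lift (BinaryFan.mk (P.lift fun i => u i.castSucc) (u (Fin.last _)))
              fac := ?_, ext := ?_ }⟩
    · intro W u i
      induction i using Fin.lastCases with
      | last =>
        rw [Fin.snoc_last]
        exact L.fac (BinaryFan.mk _ _) ⟨.right⟩
      | cast i =>
        rw [Fin.snoc_castSucc, ← Category.assoc]
        exact (congrArg (· ≫ P.π i) (L.fac (BinaryFan.mk _ _) ⟨.left⟩)).trans (P.fac _ i)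
    · intro W c c' h
      refine BinaryFan.IsLimit.hom_ext L (P.ext fun i => ?_) ?_
      · have := h i.castSucc
        rw [Fin.snoc_castSucc, ← Category.assoc, ← Category.assoc] at this
        exact this
      · have := h (Fin.last _)
        rw [Fin.snoc_last] at this
        exact this

/-- The square of the chart. -/
abbrev sq : EtOver X := EtOver.prodObj U U

/-- A pair of maps into the chart. -/
def pair {W : EtOver X} (a b : W ⟶ U) : W ⟶ sq U := (EtOver.prodIsLimit U U).lift (BinaryFan.mk a b)

omit [S.IsSeparated] [IsAffine U.obj.left.left] in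
theorem pair_fst {W : EtOver X} (a b : W ⟶ U) : pair U a b ≫ EtOver.prodFst U U = a :=
  (EtOver.prodIsLimit U U).fac (BinaryFan.mk a b) ⟨.left⟩

omit [S.IsSeparated] [IsAffine U.obj.left.left] in
theorem pair_snd {W : EtOver X} (a b : W ⟶ U) : pair U a b ≫ EtOver.prodSnd U U = b :=
  (EtOver.prodIsLimit U U).fac (BinaryFan.mk a b) ⟨.right⟩

omit [S.IsSeparated] [IsAffine U.obj.left.left] in
theorem comp_pair {W W' : EtOver X} (h : W' ⟶ W) (a b : W ⟶ U) : h ≫ pair U a b = pair U (h ≫ a) (h ≫ b) := by
  refine BinaryFan.IsLimit.hom_ext (EtOver.prodIsLimit U U) ?_ ?_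
  · exact (Category.assoc _ _ _).trans ((congrArg (h ≫ ·) (pair_fst U a b)).trans (pair_fst U _ _).symm)
  · exact (Category.assoc _ _ _).trans ((congrArg (h ≫ ·) (pair_snd U a b)).trans (pair_snd U _ _).symm)

/-- The diagonal of the chart. -/
def diagU : U ⟶ sq U := pair U (𝟙 U) (𝟙 U)

/-- The locus where two maps into the chart agree. -/
def coincide {W : EtOver X} (a b : W ⟶ U) : Set ↥W.obj.left.left :=
  (pair U a b).hom.left.left ⁻¹' Set.range (diagU U).hom.left.left

omit [S.IsSeparated] [IsAffine U.obj.left.left] in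
theorem coincide_comp {W W' : EtOver X} (h : W' ⟶ W) (a b : W ⟶ U) :
    coincide U (h ≫ a) (h ≫ b) = h.hom.left.left ⁻¹' coincide U a b := by
  rw [coincide, ← comp_pair]
  rfl

omit [IsAffine U.obj.left.left] in
include hsep in
theorem isClopen_range_diagU [IsAffine U.obj.left.left] : IsClopen (Set.range (diagU U).hom.left.left) := by
  haveI := isAffine_prodObj hsep U U
  let Δ := (diagU U).hom.left.left
  have e : Δ ≫ (EtOver.prodFst U U).hom.left.left = 𝟙 _ :=
    congrArg (fun k : U ⟶ U => k.hom.left.left) (pair_fst U (𝟙 U) (𝟙 U))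
  haveI : IsClosedImmersion (Δ ≫ (EtOver.prodFst U U).hom.left.left) := by rw [e]; infer_instance
  haveI : IsClosedImmersion Δ := IsClosedImmersion.of_comp Δ (EtOver.prodFst U U).hom.left.left
  haveI := EtOver.etale_left (diagU U)
  exact ⟨Δ.isClosedEmbedding.isClosed_range, Δ.isOpenMap.isOpen_range⟩

omit [IsAffine U.obj.left.left] in
include hsep in
theorem isClopen_coincide [IsAffine U.obj.left.left] {W : EtOver X} (a b : W ⟶ U) : IsClopen (coincide U a b) :=
  (isClopen_range_diagU hsep U).preimage (pair U a b).hom.left.left.continuous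

omit [S.IsSeparated] [IsAffine U.obj.left.left] in
/-- The agreement locus is covered by an object on which the maps agree. -/
theorem exists_coincide_piece {W : EtOver X} (a b : W ⟶ U) :
    ∃ (W' : EtOver X) (h : W' ⟶ W), h ≫ a = h ≫ b ∧ coincide U a b ⊆ Set.range h.hom.left.left := by
  refine ⟨EtOver.pullbackObj (pair U a b) (diagU U), EtOver.pullbackFst _ _, ?_, fun w hw => ?_⟩
  · have h := EtOver.pullback_condition (pair U a b) (diagU U)
    calc EtOver.pullbackFst (pair U a b) (diagU U) ≫ a
          = (EtOver.pullbackFst (pair U a b) (diagU U) ≫ pair U a b) ≫ EtOver.prodFst U U :=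
            (congrArg (_ ≫ ·) (pair_fst U a b).symm).trans (Category.assoc _ _ _).symm
      _ = EtOver.pullbackSnd (pair U a b) (diagU U) := by
          rw [h]
          exact (Category.assoc _ _ _).trans ((congrArg (_ ≫ ·) (pair_fst U _ _)).trans (Category.comp_id _))
      _ = (EtOver.pullbackFst (pair U a b) (diagU U) ≫ pair U a b) ≫ EtOver.prodSnd U U := by
          rw [h]
          exact ((Category.assoc _ _ _).trans ((congrArg (_ ≫ ·) (pair_snd U _ _)).trans (Category.comp_id _))).symm
      _ = EtOver.pullbackFst (pair U a b) (diagU U) ≫ b :=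
            (Category.assoc _ _ _).trans (congrArg (_ ≫ ·) (pair_snd U a b))
  · obtain ⟨z, hz⟩ := hw
    obtain ⟨q, hq, -⟩ := Scheme.exists_preimage_of_isPullback
      ((EtOver.isPullback (pair U a b) (diagU U)).map (EtOver.toScheme X)) w z hz.symm
    exact ⟨q, hq⟩

omit [S.IsSeparated] [IsAffine U.obj.left.left] in
/-- Points with equal images in the chart lie in the agreement locus. -/
theorem mem_coincide_of_fieldPt {W : EtOver X} {K : Type u} [Field K] {str : Spec (CommRingCat.of K) ⟶ S}
    (ω : Over.mk str ⟶ W.obj.left) (a b : W ⟶ U) (h : ω ≫ a.hom.left = ω ≫ b.hom.left) (z : Spec (CommRingCat.of K)) :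
    ω.left z ∈ coincide U a b := by
  refine ⟨(ω ≫ a.hom.left).left z, ?_⟩
  have e : ω ≫ (pair U a b).hom.left = (ω ≫ a.hom.left) ≫ (diagU U).hom.left := by
    refine Functor.relativelyRepresentable.hom_ext' U.property.1 ?_ ?_
    · calc (ω ≫ (pair U a b).hom.left) ≫ (EtOver.prodSnd U U).hom.left
          = ω ≫ (pair U a b ≫ EtOver.prodSnd U U).hom.left := Category.assoc _ _ _
        _ = ω ≫ b.hom.left := by rw [pair_snd]
        _ = (ω ≫ a.hom.left) ≫ (diagU U ≫ EtOver.prodSnd U U).hom.left := by
            rw [diagU, pair_snd, ← h]; exact (Category.comp_id _).symm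
        _ = _ := (Category.assoc _ _ _).symm
    · calc (ω ≫ (pair U a b).hom.left) ≫ (EtOver.prodFst U U).hom.left
          = ω ≫ (pair U a b ≫ EtOver.prodFst U U).hom.left := Category.assoc _ _ _
        _ = (ω ≫ a.hom.left) ≫ (diagU U ≫ EtOver.prodFst U U).hom.left := by
            rw [diagU, pair_fst, pair_fst]; exact (Category.comp_id _).symm
        _ = _ := (Category.assoc _ _ _).symm
  exact (congrArg (fun k => k.left z) e).symm

/-- An idempotent function vanishing nowhere invertibly is zero. -/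
theorem eq_zero_of_idem {Z : Scheme.{u}} (y : Γ(Z, ⊤)) (hy : IsIdempotentElem y)
    (h : ∀ z : Z, z ∉ Z.basicOpen y) : y = 0 := by
  refine TopCat.Presheaf.section_ext Z.sheaf ⊤ y 0 fun z hz => ?_
  have h1 : IsIdempotentElem (Z.presheaf.germ ⊤ z hz y) := hy.map (Z.presheaf.germ ⊤ z hz).hom
  have h2 : ¬IsUnit (Z.presheaf.germ ⊤ z hz y) := fun hu => h z ((Z.mem_basicOpen y z hz).2 hu)
  rcases (IsLocalRing.isUnit_or_isUnit_one_sub_self (Z.presheaf.germ ⊤ z hz y)) with h3 | h3
  · exact absurd h3 h2
  · have h4 : (1 - Z.presheaf.germ ⊤ z hz y) * Z.presheaf.germ ⊤ z hz y = 0 := by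
      rw [sub_mul, one_mul, h1.eq, sub_self]
    exact ((h3.mul_right_eq_zero).1 h4).trans (map_zero (Z.presheaf.germ ⊤ z hz).hom).symm

/-- Basic opens on an affine scheme and on its spectrum. -/
theorem mem_basicOpen_iff_isoSpec {Z : Scheme.{u}} [IsAffine Z] (y : Γ(Z, ⊤)) (z : Z) :
    Z.isoSpec.hom z ∈ PrimeSpectrum.basicOpen y ↔ z ∈ Z.basicOpen y := by
  rw [← Scheme.toSpecΓ_preimage_basicOpen]
  rfl

variable {U} {n : ℕ} (P : Pow U n)

/-- The action of a permutation. -/
def perm (σ : Equiv.Perm (Fin n)) : P.obj ⟶ P.obj := P.lift fun i => P.π (σ i)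

omit [S.IsSeparated] [IsAffine U.obj.left.left] in
theorem perm_one : perm P 1 = 𝟙 P.obj := P.ext fun i => by rw [perm, P.fac, Category.id_comp]; rfl

omit [S.IsSeparated] [IsAffine U.obj.left.left] in
theorem perm_mul (σ τ : Equiv.Perm (Fin n)) : perm P (σ * τ) = perm P σ ≫ perm P τ := P.ext fun i => by
  rw [Category.assoc, perm, perm, perm, P.fac, P.fac, P.fac]
  rfl

omit [S.IsSeparated] [IsAffine U.obj.left.left] in
theorem lift_perm {W : EtOver X} (u : Fin n → (W ⟶ U)) (σ : Equiv.Perm (Fin n)) :
    P.lift u ≫ perm P σ = P.lift (u ∘ σ) := P.ext fun i => by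
  rw [Category.assoc, perm, P.fac, P.fac, P.fac]
  rfl

/-- Permutations act on the functions. -/
@[instance_reducible] def action : MulSemiringAction (Equiv.Perm (Fin n)) (fnA P.obj) where
  smul σ b := resA (perm P σ) b
  one_smul b := by show resA (perm P 1) b = b; rw [perm_one]; rfl
  mul_smul σ τ b := by show resA (perm P (σ * τ)) b = resA (perm P σ) (resA (perm P τ) b); rw [perm_mul]; rfl
  smul_zero σ := map_zero (resA (perm P σ))
  smul_add σ := map_add (resA (perm P σ))
  smul_one σ := map_one (resA (perm P σ))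
  smul_mul σ := map_mul (resA (perm P σ))

/-- The partial diagonals. -/
def diagLocus : Set ↥P.obj.obj.left.left := ⋃ p : {p : Fin n × Fin n // p.1 ≠ p.2}, coincide U (P.π p.1.1) (P.π p.1.2)

omit [S.IsSeparated] [IsAffine U.obj.left.left] in
theorem preimage_diagLocus (σ : Equiv.Perm (Fin n)) :
    (perm P σ).hom.left.left ⁻¹' diagLocus P = diagLocus P := by
  have h : ∀ i j, (perm P σ).hom.left.left ⁻¹' coincide U (P.π i) (P.π j) = coincide U (P.π (σ i)) (P.π (σ j)) :=
    fun i j => by rw [← coincide_comp, perm, P.fac, P.fac]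
  simp only [diagLocus, Set.preimage_iUnion, h]
  refine Set.Subset.antisymm (Set.iUnion_subset fun p => ?_) (Set.iUnion_subset fun p => ?_)
  · exact Set.subset_iUnion_of_subset ⟨(σ p.1.1, σ p.1.2), σ.injective.ne p.2⟩ subset_rfl
  · refine Set.subset_iUnion_of_subset ⟨(σ.symm p.1.1, σ.symm p.1.2), σ.symm.injective.ne p.2⟩ ?_
    simp only [Equiv.apply_symm_apply]
    exact subset_rfl

include hsep in
theorem exists_idempotent : ∃ x : fnA P.obj, IsIdempotentElem x ∧
    ((P.obj.obj.left.left.basicOpen x : TopologicalSpace.Opens _) : Set ↥P.obj.obj.left.left) = diagLocus P := by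
  haveI := P.affine
  let Z := P.obj.obj.left.left
  have hc : IsClopen (diagLocus P) := isClopen_iUnion_of_finite fun p => isClopen_coincide hsep U _ _
  let e := Scheme.Hom.homeomorph Z.isoSpec.inv
  obtain ⟨x, hx, hs⟩ := PrimeSpectrum.exists_idempotent_basicOpen_eq_of_isClopen
    (s := Z.isoSpec.inv ⁻¹' diagLocus P) (hc.preimage Z.isoSpec.inv.continuous)
  refine ⟨x, hx, Set.ext fun z => (mem_basicOpen_iff_isoSpec x z).symm.trans ?_⟩
  refine (Set.ext_iff.1 hs (Z.isoSpec.hom z)).symm.trans ?_
  rw [Set.mem_preimage, ← Scheme.Hom.comp_apply, Iso.hom_inv_id]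
  rfl

include hsep in
/-- A function with trace one off the partial diagonals. -/
theorem exists_weight : ∃ (b c x : fnA P.obj),
    (1 : fnA P.obj) = (∑ σ : Equiv.Perm (Fin n), resA (perm P σ) b) + c * x ∧ IsIdempotentElem x ∧
      ((P.obj.obj.left.left.basicOpen x : TopologicalSpace.Opens _) : Set ↥P.obj.obj.left.left) = diagLocus P := by
  classical
  haveI := P.affine
  letI := action P
  obtain ⟨x, hx, hxV⟩ := exists_idempotent hsep P
  let G := Equiv.Perm (Fin n)
  let B := fnA P.obj
  let tr : B → B := fun b => ∑ σ : G, resA (perm P σ) b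
  have htr : ∀ (σ : G) (b : B), σ • tr b = tr b := fun σ b => by
    show σ • (∑ τ : G, τ • b) = ∑ τ : G, τ • b
    rw [Finset.smul_sum]
    exact Fintype.sum_equiv (Equiv.mulLeft σ) _ _ fun τ => smul_smul σ τ b
  have hxinv : ∀ σ : G, σ • x = x := fun σ => by
    refine PrimeSpectrum.basicOpen_injOn_isIdempotentElem (hx.map (resA (perm P σ))) hx ?_
    refine TopologicalSpace.Opens.ext (Set.ext fun p => ?_)
    obtain ⟨z, rfl⟩ : ∃ z, P.obj.obj.left.left.isoSpec.hom z = p :=
      (Scheme.Hom.homeomorph P.obj.obj.left.left.isoSpec.hom).surjective p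
    refine (mem_basicOpen_iff_isoSpec _ z).trans (Iff.trans ?_ (mem_basicOpen_iff_isoSpec x z).symm)
    show z ∈ P.obj.obj.left.left.basicOpen ((perm P σ).hom.left.left.appTop x) ↔ _
    rw [← Scheme.preimage_basicOpen_top]
    show (perm P σ).hom.left.left z ∈ (P.obj.obj.left.left.basicOpen x : Set _) ↔ z ∈ (P.obj.obj.left.left.basicOpen x : Set _)
    rw [hxV, ← Set.mem_preimage, preimage_diagLocus]
  let A := FixedPoints.subring B G
  let J : Ideal A :=
    { carrier := {a | ∃ (b : B) (c : A), (a : B) = tr b + (c : B) * x}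
      add_mem' := by
        rintro a a' ⟨b, c, h⟩ ⟨b', c', h'⟩
        refine ⟨b + b', c + c', ?_⟩
        push_cast
        simp only [h, h', tr, map_add, Finset.sum_add_distrib]
        ring
      zero_mem' := ⟨0, 0, by simp [tr]⟩
      smul_mem' := by
        rintro r a ⟨b, c, h⟩
        refine ⟨(r : B) * b, r * c, ?_⟩
        show (r : B) * (a : B) = _
        rw [h, mul_add, Finset.mul_sum]
        congr 1
        · refine Finset.sum_congr rfl fun σ _ => ?_
          show (r : B) * σ • b = σ • ((r : B) * b)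
          rw [smul_mul', r.2 σ]
        · exact (mul_assoc _ _ _).symm }
  suffices hJ : J = ⊤ by
    obtain ⟨b, c, h⟩ : (1 : A) ∈ J := hJ ▸ Submodule.mem_top
    exact ⟨b, c, x, h, hx, hxV⟩
  by_contra hJ
  obtain ⟨m, hm, hJm⟩ := Ideal.exists_le_maximal J hJ
  haveI : Algebra.IsInvariant A B G := ⟨fun b hb => ⟨⟨b, hb⟩, rfl⟩⟩
  haveI : Algebra.IsIntegral A B := Algebra.IsInvariant.isIntegral A B G
  obtain ⟨p, hp, hpm⟩ := Ideal.exists_ideal_over_maximal_of_isIntegral (S := B) m (by
    intro y hy
    rw [RingHom.mem_ker] at hy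
    rw [show y = 0 from Subtype.ext hy]
    exact zero_mem m)
  haveI := hp
  have hmem : ∀ a : A, a ∈ J → (a : B) ∈ p := fun a ha => by
    have : a ∈ p.comap (algebraMap A B) := hpm.symm ▸ hJm ha
    exact this
  have hxp : x ∈ p := hmem ⟨x, hxinv⟩ ⟨0, 1, by simp [tr]⟩
  have htp : ∀ b, tr b ∈ p := fun b => hmem ⟨tr b, fun σ => htr σ b⟩ ⟨b, 0, by simp⟩
  let K := AlgebraicClosure (FractionRing (B ⧸ p))
  let χ : B →+* K := (algebraMap (B ⧸ p) K).comp (Ideal.Quotient.mk p)
  have hχ : ∀ y ∈ p, χ y = 0 := fun y hy => by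
    show algebraMap (B ⧸ p) K (Ideal.Quotient.mk p y) = 0
    rw [Ideal.Quotient.eq_zero_iff_mem.2 hy, map_zero]
  let Z := P.obj.obj.left.left
  let ω₀ : Spec (CommRingCat.of K) ⟶ Z := Spec.map (CommRingCat.ofHom χ) ≫ Z.isoSpec.inv
  let ω : Over.mk (ω₀ ≫ P.obj.obj.left.hom) ⟶ P.obj.obj.left := Over.homMk ω₀ rfl
  let z : Spec (CommRingCat.of K) := ⟨⊥, Ideal.isPrime_bot⟩
  have hz : ω₀ z ∉ Z.basicOpen x := fun h => by
    rw [← mem_basicOpen_iff_isoSpec] at h
    have e : Z.isoSpec.hom (ω₀ z) = Spec.map (CommRingCat.ofHom χ) z := by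
      rw [← Scheme.Hom.comp_apply, Category.assoc, Iso.inv_hom_id, Category.comp_id]
    rw [e] at h
    exact h (show χ x ∈ (⊥ : Ideal K) from Ideal.mem_bot.2 (hχ x hxp))
  have hinj : Function.Injective fun σ : G => ((χ.comp (resA (perm P σ))) : B →* K) := fun σ τ h => by
    have h0 : χ.comp (resA (perm P σ)) = χ.comp (resA (perm P τ)) :=
      RingHom.ext fun y => DFunLike.congr_fun h y
    have hc : ∀ ρ : G, (ω ≫ (perm P ρ).hom.left).left =
        Spec.map (CommRingCat.ofHom (χ.comp (resA (perm P ρ)))) ≫ Z.isoSpec.inv := fun ρ => by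
      show (Spec.map (CommRingCat.ofHom χ) ≫ Z.isoSpec.inv) ≫ (perm P ρ).hom.left.left = _
      rw [Category.assoc, ← Scheme.isoSpec_inv_naturality, ← Spec.map_comp_assoc]
      rfl
    have h1 : ω ≫ (perm P σ).hom.left = ω ≫ (perm P τ).hom.left :=
      Over.OverMorphism.ext (by rw [hc, hc, h0])
    by_contra hne
    obtain ⟨i, hi⟩ : ∃ i, σ i ≠ τ i := not_forall.1 fun h => hne (Equiv.ext h)
    refine hz ?_
    show ω₀ z ∈ (Z.basicOpen x : Set Z)
    rw [hxV]
    refine Set.mem_iUnion.2 ⟨⟨(σ i, τ i), hi⟩, mem_coincide_of_fieldPt U ω _ _ ?_ z⟩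
    have hπ : ∀ ρ : G, (ω ≫ (perm P ρ).hom.left) ≫ (P.π i).hom.left = ω ≫ (P.π (ρ i)).hom.left := fun ρ => by
      refine (Category.assoc _ _ _).trans (congrArg (ω ≫ ·) ?_)
      exact congrArg (fun k : P.obj ⟶ U => k.hom.left) (P.fac (fun j => P.π (ρ j)) i)
    rw [← hπ σ, ← hπ τ, h1]
  have hli := (linearIndependent_monoidHom B K).comp _ hinj
  refine one_ne_zero (α := K) ((Fintype.linearIndependent_iff.1 hli (fun _ => 1) (funext fun y => ?_)) 1)
  simp only [Finset.sum_apply, one_smul, Pi.zero_apply, Function.comp_apply]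
  show ∑ σ : G, χ (resA (perm P σ) y) = 0
  rw [← map_sum]
  exact hχ _ (htp y)

include hsep in
/-- Sections killed on the partial diagonals are fixed by the trace of the weight. -/
theorem exists_trace_eq (M : ModEt X) : ∃ b : fnA P.obj, ∀ {W : EtOver X} (u : Fin n → (W ⟶ U)) (s : sectModEt M W),
    (∀ (V : EtOver X) (h : V ⟶ W) (i j : Fin n), i ≠ j → h ≫ u i = h ≫ u j → resM M h s = 0) →
    (∑ σ : Equiv.Perm (Fin n), resA (P.lift (u ∘ σ)) b) • s = s := by
  classical
  obtain ⟨b, c, x, h1, hx, hxV⟩ := exists_weight hsep P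
  refine ⟨b, fun {W} u s hs => ?_⟩
  have hx0 : resA (P.lift u) x • s = 0 := by
    let hW' := fun p : {p : Fin n × Fin n // p.1 ≠ p.2} => exists_coincide_piece U (u p.1.1) (u p.1.2)
    choose W' g hg hcov using hW'
    let O : W.obj.left.left.Opens := ⟨(diagLocus P)ᶜ.preimage (P.lift u).hom.left.left,
      ((isClopen_iUnion_of_finite fun p : {p : Fin n × Fin n // p.1 ≠ p.2} => isClopen_coincide hsep U (P.π p.1.1) (P.π p.1.2)).compl.isOpen).preimage
        (P.lift u).hom.left.left.continuous⟩
    let Y : Option {p : Fin n × Fin n // p.1 ≠ p.2} → EtOver X := fun o => o.elim (openObj W O) W'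
    let k : ∀ o, Y o ⟶ W := fun o => match o with
      | none => openHom W O
      | some p => g p
    refine resM_ext M (g := k) (fun w => ?_) fun o => ?_
    · by_cases hw : (P.lift u).hom.left.left w ∈ diagLocus P
      · obtain ⟨p, hp⟩ := Set.mem_iUnion.1 hw
        have : w ∈ coincide U (u p.1.1) (u p.1.2) := by
          rw [← P.fac u p.1.1, ← P.fac u p.1.2, coincide_comp]
          exact hp
        obtain ⟨v, hv⟩ := hcov p this
        exact ⟨some p, v, hv⟩
      · exact ⟨none, ⟨w, hw⟩, rfl⟩
    · rw [map_zero]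
      match o with
      | some p =>
        show resM M (g p) _ = 0
        rw [map_smulₛₗ, hs _ (g p) _ _ p.2 (hg p), smul_zero]
      | none =>
        show resM M (openHom W O) _ = 0
        rw [map_smulₛₗ, eq_zero_of_idem (resA (openHom W O) (resA (P.lift u) x))
          ((hx.map (resA (P.lift u))).map (resA (openHom W O))) fun v hv => ?_, zero_smul]
        have h2 : (openHom W O).hom.left.left v ∈ W.obj.left.left.basicOpen (resA (P.lift u) x) := by
          rw [← SetLike.mem_coe] at hv ⊢
          rw [show resA (openHom W O) (resA (P.lift u) x) = (openHom W O).hom.left.left.appTop (resA (P.lift u) x) from rfl,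
            ← Scheme.preimage_basicOpen_top] at hv
          exact hv
        have h3 : (P.lift u).hom.left.left ((openHom W O).hom.left.left v) ∈ (P.obj.obj.left.left.basicOpen x : Set _) := by
          rw [show resA (P.lift u) x = (P.lift u).hom.left.left.appTop x from rfl,
            ← Scheme.preimage_basicOpen_top] at h2
          exact h2
        rw [hxV] at h3
        exact v.2 h3
  have key : resA (P.lift u) (1 : fnA P.obj) • s =
      (∑ σ : Equiv.Perm (Fin n), resA (P.lift (u ∘ σ)) b) • s := by
    rw [h1, map_add, map_mul, add_smul, mul_smul, hx0, smul_zero, add_zero, map_sum]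
    refine congrArg (· • s) (Finset.sum_congr rfl fun σ _ => ?_)
    rw [← lift_perm P u σ]
    rfl
  rw [← key, map_one, one_smul]

end

end Groth.ModEtQCoh.AltCech
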